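import Groth.Prelude.Def_FlatCA
import Groth.Agent.S6282
import Mathlib

/-! Flatness above closed points along a flat local homomorphism. -/

set_option autoImplicit false
set_option linter.style.haveILetI false
set_option backward.isDefEq.respectTransparency false
set_option maxHeartbeats 1000000
set_option synthInstance.maxHeartbeats 400000

universe u

open TensorProduct

namespace Groth.Agent.FlatAboveLib

theorem flat_of_baseChange {R S S' : Type u} [CommRing R] [CommRing S] [CommRing S'] [Algebra R S] [Algebra R S']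
    [Algebra S S'] [IsScalarTower R S S'] {M M' : Type u} [AddCommGroup M] [Module S M] [Module R M]
    [IsScalarTower R S M] [AddCommGroup M'] [Module S' M'] [Module S M'] [IsScalarTower S S' M'] [Module R M']
    [IsScalarTower R S' M'] {h : M →ₗ[S] M'} (hh : IsBaseChange S' h) :
    ([Module.Flat S S'] → Module.Flat R M → Module.Flat R M') ∧
      ([Module.FaithfullyFlat S S'] → Module.Flat R M' → Module.Flat R M) := by
  let e : S' ⊗[S] M ≃ₗ[R] M' := hh.equiv.restrictScalars R
  refine ⟨fun hM => ?_, fun hM' => ?_⟩
  · haveI := (S6282.result (R := R) (S := S) (S' := S') M).1 hM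
    exact Module.Flat.of_linearEquiv e.symm
  · exact ((S6282.result (R := R) (S := S) (S' := S') M).2).2 (Module.Flat.of_linearEquiv e)

/-- Flatness at a prime passes up and down along a flat algebra. -/
theorem flatAt_iff {A' B' C' : Type u} [CommRing A'] [CommRing B'] [CommRing C'] [Algebra A' B'] [Algebra A' C']
    [Algebra B' C'] [IsScalarTower A' B' C'] [Module.Flat B' C']
    {M' N' : Type u} [AddCommGroup M'] [Module B' M'] [Module A' M'] [IsScalarTower A' B' M']
    [AddCommGroup N'] [Module C' N'] [Module B' N'] [IsScalarTower B' C' N'] [Module A' N'] [IsScalarTower A' C' N']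
    {h : M' →ₗ[B'] N'} (hh : IsBaseChange C' h) (P : Ideal B') [P.IsPrime] (Q : Ideal C') [Q.IsPrime]
    (hPQ : P = Q.comap (algebraMap B' C')) :
    FlatCA.FlatAt A' Q N' ↔ FlatCA.FlatAt A' P M' := by
  unfold FlatCA.FlatAt
  let BP := Localization.AtPrime P
  let CQ := Localization.AtPrime Q
  letI alg : Algebra BP CQ := (Localization.localRingHom P Q (algebraMap B' C') hPQ).toAlgebra
  haveI tw : IsScalarTower B' BP CQ := IsScalarTower.of_algebraMap_eq fun x => by
    show algebraMap B' CQ x = Localization.localRingHom P Q (algebraMap B' C') hPQ (algebraMap B' BP x)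
    rw [Localization.localRingHom_to_map, ← IsScalarTower.algebraMap_apply]
  haveI twA : IsScalarTower A' BP CQ := IsScalarTower.of_algebraMap_eq fun x => by
    rw [IsScalarTower.algebraMap_apply A' B' CQ, IsScalarTower.algebraMap_apply B' BP CQ,
      ← IsScalarTower.algebraMap_apply A' B' BP]
  haveI hflat : Module.Flat BP CQ := by
    haveI : Module.Flat C' CQ := IsLocalization.flat CQ Q.primeCompl
    haveI : Module.Flat B' CQ := Module.Flat.trans B' C' CQ
    exact (Module.flat_iff_of_isLocalization BP P.primeCompl CQ).2 inferInstance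
  haveI : IsLocalHom (algebraMap BP CQ) := Localization.isLocalHom_localRingHom P Q (algebraMap B' C') hPQ
  haveI : Module.FaithfullyFlat BP CQ := Module.FaithfullyFlat.of_flat_of_isLocalHom
  let MP := LocalizedModule P.primeCompl M'
  let NQ := LocalizedModule Q.primeCompl N'
  let φ : M' →ₗ[B'] CQ ⊗[BP] MP :=
    ((TensorProduct.mk BP CQ MP 1).restrictScalars B').comp (LocalizedModule.mkLinearMap P.primeCompl M')
  have hφ : IsBaseChange CQ φ :=
    IsBaseChange.comp (LocalizedModule.isBaseChange P.primeCompl M') (TensorProduct.isBaseChange BP MP CQ)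
  let ψ : M' →ₗ[B'] NQ := ((LocalizedModule.mkLinearMap Q.primeCompl N').restrictScalars B').comp h
  have hψ : IsBaseChange CQ ψ := IsBaseChange.comp hh (LocalizedModule.isBaseChange Q.primeCompl N')
  let e : CQ ⊗[BP] MP ≃ₗ[A'] NQ := (hφ.equiv.symm.trans hψ.equiv).restrictScalars A'
  refine ⟨fun hN => ?_, fun hM => ?_⟩
  · exact (flat_of_baseChange (R := A') (TensorProduct.isBaseChange BP MP CQ)).2 (Module.Flat.of_linearEquiv e)
  · haveI := (flat_of_baseChange (R := A') (TensorProduct.isBaseChange BP MP CQ)).1 hM
    exact Module.Flat.of_linearEquiv e.symm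

/-- A prime of a pushout above given compatible primes, one of which is maximal. -/
theorem exists_prime_pushout {B B' C C' : Type u} [CommRing B] [IsLocalRing B] [CommRing B'] [CommRing C] [IsLocalRing C]
    [CommRing C'] [Algebra B B'] [Algebra B C] [IsLocalHom (algebraMap B C)] [Algebra C C'] [Algebra B' C']
    [Algebra B C'] [IsScalarTower B C C'] [IsScalarTower B B' C'] [Algebra.IsPushout B C B' C']
    (P : Ideal B') [P.IsPrime] (hP : (IsLocalRing.maximalIdeal B).map (algebraMap B B') ≤ P) :
    ∃ Q : Ideal C', Q.IsPrime ∧ Q.comap (algebraMap B' C') = P ∧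
      (IsLocalRing.maximalIdeal C).map (algebraMap C C') ≤ Q := by
  let k := IsLocalRing.ResidueField B
  let K := P.ResidueField
  let L := IsLocalRing.ResidueField C
  let iK : k →+* K := Ideal.Quotient.lift _ ((algebraMap B' K).comp (algebraMap B B')) fun x hx => by
    rw [RingHom.comp_apply, Ideal.algebraMap_residueField_eq_zero]
    exact hP (Ideal.mem_map_of_mem _ hx)
  letI : Algebra k K := iK.toAlgebra
  haveI : Nontrivial (K ⊗[k] L) := Module.FaithfullyFlat.lTensor_nontrivial (R := k) (M := K) L
  obtain ⟨n, hn⟩ := Ideal.exists_maximal (K ⊗[k] L)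
  let F := (K ⊗[k] L) ⧸ n
  letI : Field F := Ideal.Quotient.field n
  let f₁ : K →+* F := (Ideal.Quotient.mk n).comp (Algebra.TensorProduct.includeLeftRingHom)
  let f₂ : L →+* F := (Ideal.Quotient.mk n).comp (Algebra.TensorProduct.includeRight : L →ₐ[k] K ⊗[k] L).toRingHom
  let gB : B' →+* F := f₁.comp (algebraMap B' K)
  let gC : C →+* F := f₂.comp (IsLocalRing.residue C)
  have hcomm : ∀ b : B, gC (algebraMap B C b) = gB (algebraMap B B' b) := fun b => by
    have h1 : (Algebra.TensorProduct.includeRight : L →ₐ[k] K ⊗[k] L) (algebraMap k L (IsLocalRing.residue B b)) =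
        algebraMap k (K ⊗[k] L) (IsLocalRing.residue B b) := AlgHom.commutes _ _
    show Ideal.Quotient.mk n ((Algebra.TensorProduct.includeRight : L →ₐ[k] K ⊗[k] L)
        (IsLocalRing.residue C (algebraMap B C b))) =
      Ideal.Quotient.mk n (algebraMap B' K (algebraMap B B' b) ⊗ₜ[k] 1)
    rw [show IsLocalRing.residue C (algebraMap B C b) = algebraMap k L (IsLocalRing.residue B b) from rfl, h1]
    rfl
  letI : Algebra B F := (gB.comp (algebraMap B B')).toAlgebra
  let χ : C' →ₐ[B] F := Algebra.pushoutDesc C' (R := B) (S := C) (R' := B')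
    { gC with commutes' := fun b => hcomm b } { gB with commutes' := fun b => rfl } fun x y => mul_comm _ _
  refine ⟨RingHom.ker χ.toRingHom, RingHom.ker_isPrime _, ?_, ?_⟩
  · ext x
    show χ (algebraMap B' C' x) = 0 ↔ x ∈ P
    rw [Algebra.pushoutDesc_right]
    show f₁ (algebraMap B' K x) = 0 ↔ x ∈ P
    rw [map_eq_zero_iff _ f₁.injective, Ideal.algebraMap_residueField_eq_zero]
  · rw [Ideal.map_le_iff_le_comap]
    intro x hx
    show χ (algebraMap C C' x) = 0
    rw [Algebra.pushoutDesc_left]
    show f₂ (IsLocalRing.residue C x) = 0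
    rw [(IsLocalRing.residue_eq_zero_iff x).2 hx, map_zero]

theorem flatAbove_iff_of_flat {A B C : Type u} [CommRing A] [CommRing B] [IsLocalRing B] [CommRing C] [IsLocalRing C]
    [Algebra A B] [Algebra B C] [IsLocalHom (algebraMap B C)] [Algebra A C] [IsScalarTower A B C] [Module.Flat B C]
    (M N : Type u) [AddCommGroup M] [Module B M] [AddCommGroup N] [Module C N] [Module B N] [IsScalarTower B C N]
    (g : M →ₗ[B] N) (hg : IsBaseChange C g)
    (A' : Type u) [CommRing A'] [IsLocalRing A'] [Algebra A A']
    (B' M' : Type u) [CommRing B'] [Algebra B B'] [Algebra A' B'] [Algebra A B'] [IsScalarTower A B B'] [IsScalarTower A A' B']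
        [Algebra.IsPushout A B A' B']
        [AddCommGroup M'] [Module B' M'] [Module B M'] [IsScalarTower B B' M'] [Module A' M'] [IsScalarTower A' B' M']
        (fB : M →ₗ[B] M') (hfB : IsBaseChange B' fB)
    (C' N' : Type u) [CommRing C'] [Algebra C C'] [Algebra A' C'] [Algebra A C'] [IsScalarTower A C C'] [IsScalarTower A A' C']
        [Algebra.IsPushout A C A' C']
        [AddCommGroup N'] [Module C' N'] [Module C N'] [IsScalarTower C C' N'] [Module A' N'] [IsScalarTower A' C' N']
        (fC : N →ₗ[C] N') (hfC : IsBaseChange C' fC) :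
    FlatCA.FlatAboveClosedPoints B A' B' M' ↔ FlatCA.FlatAboveClosedPoints C A' C' N' := by
  let ψ : B' →ₐ[A] C' := Algebra.pushoutDesc B' ((IsScalarTower.toAlgHom A C C').comp (IsScalarTower.toAlgHom A B C))
    (IsScalarTower.toAlgHom A A' C') fun x y => mul_comm _ _
  letI : Algebra B' C' := ψ.toRingHom.toAlgebra
  letI : Algebra B C' := ((algebraMap C C').comp (algebraMap B C)).toAlgebra
  haveI : IsScalarTower B C C' := IsScalarTower.of_algebraMap_eq fun _ => rfl
  haveI : IsScalarTower B B' C' := IsScalarTower.of_algebraMap_eq fun x => by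
    show algebraMap C C' (algebraMap B C x) = ψ (algebraMap B B' x)
    rw [Algebra.pushoutDesc_left]; rfl
  haveI : IsScalarTower A' B' C' := IsScalarTower.of_algebraMap_eq fun x => by
    show algebraMap A' C' x = ψ (algebraMap A' B' x)
    rw [Algebra.pushoutDesc_right]; rfl
  haveI : IsScalarTower A B' C' := IsScalarTower.of_algebraMap_eq fun x => (ψ.commutes x).symm
  haveI hpo : Algebra.IsPushout B C B' C' := (Algebra.IsPushout.comp_iff A A' B' (S := B) (T := C) (T' := C')).1 ‹_›
  haveI : Algebra.IsPushout B B' C C' := hpo.symm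
  haveI : Module.Flat B' C' := Module.Flat.isBaseChange B B' C C' (Algebra.IsPushout.out : IsBaseChange B' _)
  letI : Module B N' := Module.compHom N' (algebraMap B C)
  haveI : IsScalarTower B C N' := IsScalarTower.of_algebraMap_smul fun _ _ => rfl
  letI : Module B' N' := Module.compHom N' (algebraMap B' C')
  haveI : IsScalarTower B' C' N' := IsScalarTower.of_algebraMap_smul fun _ _ => rfl
  haveI : IsScalarTower B B' N' := IsScalarTower.of_algebraMap_smul fun b x => by
    show algebraMap B' C' (algebraMap B B' b) • x = algebraMap B C b • x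
    rw [← IsScalarTower.algebraMap_apply B B' C', IsScalarTower.algebraMap_apply B C C', algebraMap_smul]
  haveI : IsScalarTower B C' N' := IsScalarTower.of_algebraMap_smul fun b x => by
    show algebraMap C C' (algebraMap B C b) • x = algebraMap B C b • x
    rw [algebraMap_smul]
  let h : M' →ₗ[B'] N' := hfB.lift ((fC.restrictScalars B).comp g)
  have hh : IsBaseChange C' h := by
    refine IsBaseChange.of_comp hfB ?_
    have : (h.restrictScalars B).comp fB = (fC.restrictScalars B).comp g := hfB.lift_comp _
    rw [show (h : M' →ₗ[B] N') ∘ₗ fB = (fC.restrictScalars B).comp g from this]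
    exact hg.comp hfC
  refine ⟨fun hB Q hQ hle => ?_, fun hC P hP hle => ?_⟩
  · haveI : (Q.comap (algebraMap B' C')).IsPrime := Ideal.IsPrime.comap _
    refine (flatAt_iff hh _ Q rfl).2 (hB _ (sup_le ?_ ?_))
    · rw [Ideal.map_le_iff_le_comap]
      intro x hx
      show algebraMap B' C' (algebraMap A' B' x) ∈ Q
      rw [← IsScalarTower.algebraMap_apply A' B' C']
      exact hle (Ideal.mem_sup_left (Ideal.mem_map_of_mem _ hx))
    · rw [Ideal.map_le_iff_le_comap]
      intro x hx
      show algebraMap B' C' (algebraMap B B' x) ∈ Q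
      rw [← IsScalarTower.algebraMap_apply B B' C', IsScalarTower.algebraMap_apply B C C']
      exact hle (Ideal.mem_sup_right (Ideal.mem_map_of_mem _ (by
        rw [IsLocalRing.mem_maximalIdeal, mem_nonunits_iff] at hx ⊢
        exact fun hu => hx (isUnit_of_map_unit _ _ hu))))
  · obtain ⟨Q, hQ, hQP, hQC⟩ := exists_prime_pushout (B := B) (C := C) (C' := C') P (le_sup_right.trans hle)
    refine (flatAt_iff hh P Q hQP.symm).1 (hC Q (sup_le ?_ hQC))
    rw [Ideal.map_le_iff_le_comap]
    intro x hx
    show algebraMap A' C' x ∈ Q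
    rw [IsScalarTower.algebraMap_apply A' B' C']
    have : algebraMap A' B' x ∈ Q.comap (algebraMap B' C') := hQP.symm ▸ hle (Ideal.mem_sup_left (Ideal.mem_map_of_mem _ hx))
    exact this

end Groth.Agent.FlatAboveLib
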