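import Groth.Prelude.Def_FlatCA
import Mathlib

/-! Flatness above closed points along a finite local homomorphism. -/

set_option autoImplicit false
set_option linter.style.haveILetI false
set_option backward.isDefEq.respectTransparency false
set_option maxHeartbeats 1000000
set_option synthInstance.maxHeartbeats 400000

universe u

open TensorProduct

namespace Groth.Agent.FlatAboveLib

theorem lTensor_rTensor_comm {A S : Type u} [CommRing A] [CommRing S] [Algebra A S] {M L X Y : Type u}
    [AddCommGroup M] [Module S M] [Module A M] [IsScalarTower A S M]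
    [AddCommGroup L] [Module S L] [Module A L] [IsScalarTower A S L]
    [AddCommGroup X] [Module A X] [AddCommGroup Y] [Module A Y] (g : M →ₗ[S] L) (f : X →ₗ[A] Y) (z : M ⊗[A] X) :
    AlgebraTensorModule.rTensor A Y g (f.lTensor M z) = f.lTensor L (AlgebraTensorModule.rTensor A X g z) := by
  induction z with
  | zero => simp
  | tmul m x => simp
  | add a b ha hb => simp only [map_add, ha, hb]

/-- Flatness at a prime means that kernels are killed outside the prime. -/
theorem flatAt_iff_kernel {A S : Type u} [CommRing A] [CommRing S] [Algebra A S] (q : Ideal S) [q.IsPrime]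
    (M : Type u) [AddCommGroup M] [Module S M] [Module A M] [IsScalarTower A S M] :
    FlatCA.FlatAt A q M ↔ ∀ (X Y : Type u) [AddCommGroup X] [AddCommGroup Y] [Module A X] [Module A Y]
      (f : X →ₗ[A] Y), Function.Injective f → ∀ z : M ⊗[A] X, f.lTensor M z = 0 → ∃ s : S, s ∉ q ∧ s • z = 0 := by
  unfold FlatCA.FlatAt
  let g := LocalizedModule.mkLinearMap q.primeCompl M
  rw [Module.Flat.iff_lTensor_preserves_injective_linearMap]
  constructor
  · intro h X Y _ _ _ _ f hf z hz
    have h1 : f.lTensor (LocalizedModule q.primeCompl M) (AlgebraTensorModule.rTensor A X g z) = 0 := by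
      rw [← lTensor_rTensor_comm, hz, map_zero]
    have h2 : AlgebraTensorModule.rTensor A X g z = 0 := h f hf (by rw [h1, map_zero])
    obtain ⟨s, hs⟩ := (IsLocalizedModule.eq_zero_iff q.primeCompl (AlgebraTensorModule.rTensor A X g)).1 h2
    exact ⟨s, s.2, hs⟩
  · intro h X Y _ _ _ _ f hf
    refine (injective_iff_map_eq_zero _).2 fun w hw => ?_
    obtain ⟨⟨z, s⟩, hws⟩ := IsLocalizedModule.surj q.primeCompl (AlgebraTensorModule.rTensor A X g) w
    have h1 : AlgebraTensorModule.rTensor A Y g (f.lTensor M z) = 0 := by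
      rw [lTensor_rTensor_comm, ← hws, Submonoid.smul_def]
      have : f.lTensor (LocalizedModule q.primeCompl M) ((s : S) • w) =
          (s : S) • f.lTensor (LocalizedModule q.primeCompl M) w :=
        map_smul (AlgebraTensorModule.lTensor S (LocalizedModule q.primeCompl M) f) (s : S) w
      rw [this, hw, smul_zero]
    obtain ⟨t, ht⟩ := (IsLocalizedModule.eq_zero_iff q.primeCompl (AlgebraTensorModule.rTensor A Y g)).1 h1
    rw [Submonoid.smul_def] at ht
    have h2 : f.lTensor M ((t : S) • z) = 0 :=
      (map_smul (AlgebraTensorModule.lTensor S M f) (t : S) z).trans ht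
    obtain ⟨u, hu, hut⟩ := h X Y f hf _ h2
    let u' : q.primeCompl := ⟨u, hu⟩
    have h3 : (u' * t) • w = 0 := by
      refine (IsLocalizedModule.smul_inj (AlgebraTensorModule.rTensor A X g) s _ _).1 ?_
      rw [smul_zero, smul_comm, hws, Submonoid.smul_def, ← map_smul]
      show AlgebraTensorModule.rTensor A X g ((u * (t : S)) • z) = 0
      rw [mul_smul, hut, map_zero]
    exact (IsLocalizedModule.smul_inj (AlgebraTensorModule.rTensor A X g) (u' * t) _ _).1 (h3.trans (smul_zero _).symm)

theorem flatAt_equiv {A S : Type u} [CommRing A] [CommRing S] [Algebra A S] (q : Ideal S) [q.IsPrime]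
    {M N : Type u} [AddCommGroup M] [Module S M] [Module A M] [IsScalarTower A S M]
    [AddCommGroup N] [Module S N] [Module A N] [IsScalarTower A S N] (e : M ≃ₗ[S] N) :
    FlatCA.FlatAt A q M ↔ FlatCA.FlatAt A q N := by
  suffices H : ∀ (M N : Type u) [AddCommGroup M] [Module S M] [Module A M] [IsScalarTower A S M]
      [AddCommGroup N] [Module S N] [Module A N] [IsScalarTower A S N] (e : M ≃ₗ[S] N),
      FlatCA.FlatAt A q M → FlatCA.FlatAt A q N from ⟨H M N e, H N M e.symm⟩
  intro M N _ _ _ _ _ _ _ _ e hM
  rw [flatAt_iff_kernel] at hM ⊢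
  intro X Y _ _ _ _ f hf z hz
  let eX := AlgebraTensorModule.rTensor A X (e.symm : N →ₗ[S] M)
  obtain ⟨s, hs, hsz⟩ := hM X Y f hf (eX z) (by rw [← lTensor_rTensor_comm, hz, map_zero])
  refine ⟨s, hs, ?_⟩
  have h1 : ∀ w : N ⊗[A] X, AlgebraTensorModule.rTensor A X (e : M →ₗ[S] N) (eX w) = w := fun w => by
    induction w with
    | zero => simp
    | tmul n x => simp [eX]
    | add a b ha hb => simp only [map_add, ha, hb]
  rw [← h1 (s • z), map_smul, hsz, map_zero]

/-- Flatness at a prime of the base of an integral algebra is flatness at all primes above it. -/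
theorem flatAt_iff_of_integral {A S T : Type u} [CommRing A] [CommRing S] [CommRing T] [Algebra A S] [Algebra A T]
    [Algebra S T] [IsScalarTower A S T] [Algebra.IsIntegral S T]
    (N : Type u) [AddCommGroup N] [Module T N] [Module S N] [IsScalarTower S T N] [Module A N]
    [IsScalarTower A T N] [IsScalarTower A S N] (P : Ideal S) [P.IsPrime] :
    FlatCA.FlatAt A P N ↔ ∀ (Q : Ideal T) [Q.IsPrime], Q.comap (algebraMap S T) = P → FlatCA.FlatAt A Q N := by
  constructor
  · intro h Q _ hQ
    rw [flatAt_iff_kernel] at h ⊢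
    intro X Y _ _ _ _ f hf z hz
    obtain ⟨s, hs, hsz⟩ := h X Y f hf z hz
    exact ⟨algebraMap S T s, fun hh => hs (hQ ▸ hh), by rw [algebraMap_smul, hsz]⟩
  · intro h
    rw [flatAt_iff_kernel]
    intro X Y _ _ _ _ f hf z hz
    let I : Ideal T :=
      { carrier := {c | c • z = 0}
        zero_mem' := zero_smul T z
        add_mem' := fun {a b} (ha : a • z = 0) (hb : b • z = 0) => show (a + b) • z = 0 by
          rw [add_smul, ha, hb, add_zero]
        smul_mem' := fun c a (ha : a • z = 0) => show (c * a) • z = 0 by rw [mul_smul, ha, smul_zero] }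
    by_contra hcon
    push Not at hcon
    have hIP : I.comap (algebraMap S T) ≤ P := fun b hb => by
      by_contra hbP
      refine hcon b hbP ?_
      rw [← algebraMap_smul T b z]
      exact hb
    obtain ⟨Q, hQI, hQ, hQP⟩ := Ideal.exists_ideal_over_prime_of_isIntegral P I hIP
    obtain ⟨s, hs, hsz⟩ := (flatAt_iff_kernel Q N).1 (h Q hQP) X Y f hf z hz
    exact hs (hQI hsz)

theorem flatAbove_iff_of_finite {A B C : Type u} [CommRing A] [CommRing B] [IsLocalRing B] [CommRing C] [IsLocalRing C]
    [Algebra A B] [Algebra B C] [IsLocalHom (algebraMap B C)] [Algebra A C] [IsScalarTower A B C] [Module.Finite B C]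
    (N : Type u) [AddCommGroup N] [Module C N] [Module B N] [IsScalarTower B C N]
    (A' : Type u) [CommRing A'] [IsLocalRing A'] [Algebra A A']
    (B' M' : Type u) [CommRing B'] [Algebra B B'] [Algebra A' B'] [Algebra A B'] [IsScalarTower A B B'] [IsScalarTower A A' B']
        [Algebra.IsPushout A B A' B']
        [AddCommGroup M'] [Module B' M'] [Module B M'] [IsScalarTower B B' M'] [Module A' M'] [IsScalarTower A' B' M']
        (fB : N →ₗ[B] M') (hfB : IsBaseChange B' fB)
    (C' N' : Type u) [CommRing C'] [Algebra C C'] [Algebra A' C'] [Algebra A C'] [IsScalarTower A C C'] [IsScalarTower A A' C']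
        [Algebra.IsPushout A C A' C']
        [AddCommGroup N'] [Module C' N'] [Module C N'] [IsScalarTower C C' N'] [Module A' N'] [IsScalarTower A' C' N']
        (fC : N →ₗ[C] N') (hfC : IsBaseChange C' fC) :
    FlatCA.FlatAboveClosedPoints B A' B' M' ↔ FlatCA.FlatAboveClosedPoints C A' C' N' := by
  let ψ : B' →ₐ[A] C' := Algebra.pushoutDesc B' ((IsScalarTower.toAlgHom A C C').comp (IsScalarTower.toAlgHom A B C))
    (IsScalarTower.toAlgHom A A' C') fun x y => mul_comm _ _
  letI : Algebra B' C' := ψ.toRingHom.toAlgebra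
  letI : Algebra B C' := ((algebraMap C C').comp (algebraMap B C)).toAlgebra
  haveI : IsScalarTower B C C' := IsScalarTower.of_algebraMap_eq fun _ => rfl
  haveI : IsScalarTower B B' C' := IsScalarTower.of_algebraMap_eq fun x => by
    show algebraMap C C' (algebraMap B C x) = ψ (algebraMap B B' x)
    rw [Algebra.pushoutDesc_left]; rfl
  haveI : IsScalarTower A' B' C' := IsScalarTower.of_algebraMap_eq fun x => by
    show algebraMap A' C' x = ψ (algebraMap A' B' x)
    rw [Algebra.pushoutDesc_right]; rfl
  haveI : IsScalarTower A B' C' := IsScalarTower.of_algebraMap_eq fun x => (ψ.commutes x).symm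
  haveI hpo : Algebra.IsPushout B C B' C' := (Algebra.IsPushout.comp_iff A A' B' (S := B) (T := C) (T' := C')).1 ‹_›
  haveI : Algebra.IsPushout B B' C C' := hpo.symm
  haveI : Module.Finite B' C' := Module.Finite.equiv (IsBaseChange.equiv (Algebra.IsPushout.out : IsBaseChange B'
    (IsScalarTower.toAlgHom B C C').toLinearMap))
  haveI : Algebra.IsIntegral B' C' := Algebra.IsIntegral.of_finite B' C'
  letI : Module B N' := Module.compHom N' (algebraMap B C)
  haveI : IsScalarTower B C N' := IsScalarTower.of_algebraMap_smul fun _ _ => rfl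
  letI : Module B' N' := Module.compHom N' (algebraMap B' C')
  haveI : IsScalarTower B' C' N' := IsScalarTower.of_algebraMap_smul fun _ _ => rfl
  haveI : IsScalarTower B B' N' := IsScalarTower.of_algebraMap_smul fun b x => by
    show algebraMap B' C' (algebraMap B B' b) • x = algebraMap B C b • x
    rw [← IsScalarTower.algebraMap_apply B B' C', IsScalarTower.algebraMap_apply B C C', algebraMap_smul]
  haveI : IsScalarTower B C' N' := IsScalarTower.of_algebraMap_smul fun b x => by
    show algebraMap C C' (algebraMap B C b) • x = algebraMap B C b • x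
    rw [algebraMap_smul]
  haveI : IsScalarTower A' B' N' := IsScalarTower.of_algebraMap_smul fun a x => by
    show algebraMap B' C' (algebraMap A' B' a) • x = a • x
    rw [← IsScalarTower.algebraMap_apply A' B' C', algebraMap_smul]
  have hN : IsBaseChange B' (fC.restrictScalars B) :=
    IsBaseChange.of_equiv ((Algebra.IsPushout.cancelBaseChange B B' C C' N).symm.trans (hfC.equiv.restrictScalars B'))
      fun n => by
        simp only [LinearEquiv.trans_apply, Algebra.IsPushout.cancelBaseChange_symm_tmul, map_one,
          LinearEquiv.restrictScalars_apply, IsBaseChange.equiv_tmul, one_smul, LinearMap.coe_restrictScalars]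
  let e : M' ≃ₗ[B'] N' := hfB.equiv.symm.trans hN.equiv
  have hmax : ∀ (Q : Ideal C') [Q.IsPrime],
      (IsLocalRing.maximalIdeal B).map (algebraMap B B') ≤ Q.comap (algebraMap B' C') →
      (IsLocalRing.maximalIdeal C).map (algebraMap C C') ≤ Q := by
    intro Q _ h
    rw [Ideal.map_le_iff_le_comap]
    haveI : (Q.comap (algebraMap C C')).IsPrime := Ideal.IsPrime.comap _
    have h1 : (Q.comap (algebraMap C C')).comap (algebraMap B C) = IsLocalRing.maximalIdeal B := by
      refine ((IsLocalRing.maximalIdeal.isMaximal B).eq_of_le (Ideal.IsPrime.ne_top (Ideal.IsPrime.comap _)) ?_).symm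
      intro x hx
      show algebraMap C C' (algebraMap B C x) ∈ Q
      rw [← IsScalarTower.algebraMap_apply B C C', IsScalarTower.algebraMap_apply B B' C']
      exact h (Ideal.mem_map_of_mem _ hx)
    haveI : Algebra.IsIntegral B C := Algebra.IsIntegral.of_finite B C
    have h2 : (Q.comap (algebraMap C C')).IsMaximal :=
      Ideal.isMaximal_of_isIntegral_of_isMaximal_comap _ (h1 ▸ IsLocalRing.maximalIdeal.isMaximal B)
    exact (IsLocalRing.eq_maximalIdeal h2).ge
  refine ⟨fun hB Q hQ hle => ?_, fun hC P hP hle => ?_⟩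
  · haveI : (Q.comap (algebraMap B' C')).IsPrime := Ideal.IsPrime.comap _
    refine (flatAt_iff_of_integral (S := B') N' (Q.comap (algebraMap B' C'))).1
      ((flatAt_equiv _ e).1 (hB _ (sup_le ?_ ?_))) Q rfl
    · rw [Ideal.map_le_iff_le_comap]
      intro x hx
      show algebraMap B' C' (algebraMap A' B' x) ∈ Q
      rw [← IsScalarTower.algebraMap_apply A' B' C']
      exact hle (Ideal.mem_sup_left (Ideal.mem_map_of_mem _ hx))
    · rw [Ideal.map_le_iff_le_comap]
      intro x hx
      show algebraMap B' C' (algebraMap B B' x) ∈ Q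
      rw [← IsScalarTower.algebraMap_apply B B' C', IsScalarTower.algebraMap_apply B C C']
      exact hle (Ideal.mem_sup_right (Ideal.mem_map_of_mem _ (by
        rw [IsLocalRing.mem_maximalIdeal, mem_nonunits_iff] at hx ⊢
        exact fun hu => hx (isUnit_of_map_unit _ _ hu))))
  · refine (flatAt_equiv _ e).2 ((flatAt_iff_of_integral (T := C') N' P).2 fun Q hQ hQP => ?_)
    refine hC Q (sup_le ?_ (hmax Q (hQP.symm ▸ le_sup_right.trans hle)))
    rw [Ideal.map_le_iff_le_comap]
    intro x hx
    show algebraMap A' C' x ∈ Q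
    rw [IsScalarTower.algebraMap_apply A' B' C']
    have : algebraMap A' B' x ∈ Q.comap (algebraMap B' C') := hQP.symm ▸ hle (Ideal.mem_sup_left (Ideal.mem_map_of_mem _ hx))
    exact this

end Groth.Agent.FlatAboveLib
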